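import Groth.Agent.Lefpen.H725.Frame
import Mathlib.FieldTheory.IsAlgClosed.Basic
import Mathlib.FieldTheory.IsSepClosed
import Mathlib.FieldTheory.PurelyInseparable.Basic
import Mathlib.FieldTheory.PurelyInseparable.PerfectClosure
import Mathlib.RingTheory.AlgebraicIndependent.Defs
import Mathlib.RingTheory.AlgebraicIndependent.Adjoin
import Mathlib.RingTheory.AlgebraicIndependent.AlgebraicClosure
import Mathlib.RingTheory.AlgebraicIndependent.TranscendenceBasis
import Mathlib.RingTheory.Etale.Kaehler
import Mathlib.RingTheory.Etale.Field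
import Mathlib.RingTheory.Kaehler.TensorProduct
import Mathlib.Algebra.MvPolynomial.Derivation
import Mathlib.Algebra.Field.Subfield.Basic

/-!
# NL-1: a subfield with a prescribed p-basis over which an algebraically closed field is purely inseparable
-/

set_option autoImplicit false

open Groth.Agent.Lefpen.H725.Frame

namespace Groth.Agent.Lefpen.H589.SubfieldFrame

open KaehlerDifferential TensorProduct

section Frame

variable {E A K : Type*} [Field E] [CommRing A] [Field K] [Algebra E A] [Algebra A K] [Algebra E K]
  [IsScalarTower E A K]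

/-- Extension of derivations along a formally étale extension. -/
theorem exists_derivation [Algebra.FormallyEtale A K] (d : Derivation E A K) :
    ∃ D : Derivation E K K, ∀ a : A, D (algebraMap A K a) = d a := by
  let φ : Ω[A⁄E] →ₗ[A] K := d.liftKaehlerDifferential
  let ψ : K ⊗[A] Ω[A⁄E] →ₗ[K] K := LinearMap.liftBaseChange K φ
  let χ : Ω[K⁄E] →ₗ[K] K := ψ ∘ₗ (tensorKaehlerEquivOfFormallyEtale E A K).symm.toLinearMap
  refine ⟨χ.compDer (KaehlerDifferential.D E K), fun a => ?_⟩
  have h1 : χ (KaehlerDifferential.D E K (algebraMap A K a)) = ψ (1 ⊗ₜ KaehlerDifferential.D E A a) := by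
    simp only [χ, LinearMap.comp_apply, LinearEquiv.coe_coe]
    rw [tensorKaehlerEquivOfFormallyEtale_symm_D_algebraMap]
  change χ (KaehlerDifferential.D E K (algebraMap A K a)) = d a
  rw [h1]
  simp [ψ, φ]

/-- Uniqueness of extension of derivations along a formally étale extension. -/
theorem derivation_eq_zero [Algebra.FormallyEtale A K] (D : Derivation E K K)
    (h : ∀ a : A, D (algebraMap A K a) = 0) : D = 0 := by
  have h0 : D.liftKaehlerDifferential = 0 := by
    have h2 : D.liftKaehlerDifferential ∘ₗ (tensorKaehlerEquivOfFormallyEtale E A K).toLinearMap = 0 := by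
      ext x
      simpa using h x
    have h4 : D.liftKaehlerDifferential =
        (D.liftKaehlerDifferential ∘ₗ (tensorKaehlerEquivOfFormallyEtale E A K).toLinearMap) ∘ₗ
          (tensorKaehlerEquivOfFormallyEtale E A K).symm.toLinearMap := by
      ext x
      simp
    rw [h4, h2, LinearMap.zero_comp]
  ext x
  rw [← Derivation.liftKaehlerDifferential_comp_D D x, h0]
  rfl

end Frame

section Main

/-- The frame on a separable algebraic extension of a rational function field over a perfect field. -/
theorem exists_frame (p : ℕ) [Fact p.Prime] {ι : Type*} [DecidableEq ι] {E : Type*} [Field E]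
    (hE : ∀ x : E, ∃ y : E, y ^ p = x)
    {K₁ K₀ : Type*} [Field K₁] [Field K₀] [CharP K₀ p] [Algebra (MvPolynomial ι E) K₁]
    [IsFractionRing (MvPolynomial ι E) K₁] [Algebra K₁ K₀] [Algebra.IsSeparable K₁ K₀]
    [Algebra (MvPolynomial ι E) K₀] [IsScalarTower (MvPolynomial ι E) K₁ K₀]
    [Algebra E K₀] [IsScalarTower E (MvPolynomial ι E) K₀] :
    ∃ F : Frame K₀ ι, ∀ i, F.z i = algebraMap (MvPolynomial ι E) K₀ (MvPolynomial.X i) := by
  have : Algebra.FormallyEtale (MvPolynomial ι E) K₁ :=
    Algebra.FormallyEtale.of_isLocalization (nonZeroDivisors (MvPolynomial ι E))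
  have : Algebra.FormallyEtale K₁ K₀ := Algebra.FormallyEtale.of_isSeparable K₁ K₀
  have : Algebra.FormallyEtale (MvPolynomial ι E) K₀ :=
    Algebra.FormallyEtale.comp (MvPolynomial ι E) K₁ K₀
  have h1 : ∀ i : ι, ∃ D : Derivation E K₀ K₀, ∀ a : MvPolynomial ι E,
      D (algebraMap (MvPolynomial ι E) K₀ a) =
        MvPolynomial.mkDerivation E (fun j : ι => if i = j then (1 : K₀) else 0) a := fun i =>
    exists_derivation _
  choose D hD using h1
  refine ⟨{ z := fun i => algebraMap (MvPolynomial ι E) K₀ (MvPolynomial.X i)
            D := fun i => (D i).restrictScalars ℤ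
            dual := fun i j => ?_
            sep := fun D' hD' => ?_ }, fun i => rfl⟩
  · change D i (algebraMap (MvPolynomial ι E) K₀ (MvPolynomial.X j)) = _
    rw [hD, MvPolynomial.mkDerivation_X]
  · have h2 : ∀ x : E, D' (algebraMap E K₀ x) = 0 := by
      intro x
      obtain ⟨y, rfl⟩ := hE x
      rw [map_pow, Derivation.leibniz_pow]
      simp
    let D'' : Derivation E K₀ K₀ :=
      { toFun := D'
        map_add' := map_add D'
        map_smul' := fun r x => by
          rw [Algebra.smul_def, Derivation.leibniz, h2, smul_zero, add_zero, smul_eq_mul,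
            RingHom.id_apply, Algebra.smul_def]
        map_one_eq_zero' := D'.map_one_eq_zero
        leibniz' := D'.leibniz }
    have h3 : D'' = 0 := by
      refine derivation_eq_zero (A := MvPolynomial ι E) D'' fun a => ?_
      have h4 : D''.compAlgebraMap (MvPolynomial ι E) = 0 := by
        refine MvPolynomial.derivation_ext fun i => ?_
        exact hD' i
      exact congrArg (fun d => d a) h4
    ext x
    exact congrArg (fun d => d x) h3

variable {E k : Type*} [Field E] [Field k] [Algebra E k] {ι : Type*}

/-- The subfield attached to an algebraically independent family over a perfect field. -/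
theorem exists_subfield_of_perfect (p : ℕ) [Fact p.Prime] [CharP k p] [IsAlgClosed k]
    (hE : ∀ x : E, ∃ y : E, y ^ p = x) [DecidableEq ι] (c : ι → k) (hc : AlgebraicIndependent E c)
    [Algebra.IsAlgebraic (IntermediateField.adjoin E (Set.range c)) k] :
    ∃ (K : Subfield k) (F : Frame K ι), (∀ i, (F.z i : k) = c i) ∧ IsSepClosed K ∧
      ∀ x : k, ∃ n : ℕ, x ^ (p ^ n) ∈ K := by
  let K' := IntermediateField.adjoin E (Set.range c)
  let K₀ : IntermediateField K' k := separableClosure K' k
  let A := MvPolynomial ι E
  let e := hc.aevalEquivField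
  let algA : Algebra A K' := ((e : FractionRing A →+* K').comp (algebraMap A (FractionRing A))).toAlgebra
  have hA : ∀ a : A, ((algebraMap A K' a : K') : k) = MvPolynomial.aeval c a := fun a =>
    hc.aevalEquivField_algebraMap_apply_coe a
  have : IsScalarTower E A K' := IsScalarTower.of_algebraMap_eq fun x => by
    apply Subtype.ext
    rw [hA]
    simp [A, MvPolynomial.algebraMap_eq]
  have : IsFractionRing A K' :=
    IsLocalization.isLocalization_of_algEquiv (nonZeroDivisors A)
      ({ e.toRingEquiv with commutes' := fun a => rfl } : FractionRing A ≃ₐ[A] K')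
  let algA₀ : Algebra A K₀ := ((algebraMap K' K₀).comp (algebraMap A K')).toAlgebra
  have : IsScalarTower A K' K₀ := IsScalarTower.of_algebraMap_eq fun x => rfl
  have : IsScalarTower E A K₀ := IsScalarTower.of_algebraMap_eq fun x => by
    rw [IsScalarTower.algebraMap_apply E K' K₀, IsScalarTower.algebraMap_apply E A K']
    rfl
  have : CharP K₀ p := by infer_instance
  obtain ⟨F, hF⟩ := exists_frame (E := E) p hE (ι := ι) (K₁ := K') (K₀ := K₀)
  refine ⟨K₀.toSubfield, F, fun i => ?_, ?_, ?_⟩
  · rw [hF]
    change ((algebraMap A K' (MvPolynomial.X i) : K') : k) = c i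
    rw [hA, MvPolynomial.aeval_X]
  · exact (separableClosure.isSepClosure K' k).1
  · intro x
    have : ExpChar K' p := ExpChar.prime Fact.out
    have : ExpChar K₀ p := ExpChar.prime Fact.out
    obtain ⟨n, y, hy⟩ := IsPurelyInseparable.pow_mem K₀ p x
    exact ⟨n, hy ▸ y.2⟩

/-- NL-1. -/
theorem exists_subfield (p : ℕ) [Fact p.Prime] (k : Type*) [Field k] [CharP k p] [IsAlgClosed k]
    {ι : Type*} [DecidableEq ι] [Finite ι] (c : ι → k) (hc : AlgebraicIndependent (⊥ : Subfield k) c) :
    ∃ (K : Subfield k) (F : Frame K ι), (∀ i, (F.z i : k) = c i) ∧ IsSepClosed K ∧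
      ∀ x : k, ∃ n : ℕ, x ^ (p ^ n) ∈ K := by
  let F₀ := (⊥ : Subfield k)
  obtain ⟨t, hct, ht⟩ := exists_isTranscendenceBasis_superset (R := F₀) (A := k) (s := Set.range c)
    hc.coe_range
  let Y : Set k := t \ Set.range c
  let F₁ : IntermediateField F₀ k := IntermediateField.adjoin F₀ Y
  -- `c` is algebraically independent over `F₁`
  have h1 : AlgebraicIndependent F₁ c := by
    rw [IntermediateField.algebraicIndependent_adjoin_iff]
    have h2 := ht.1.adjoin_of_disjoint (s := {x : t | (x : k) ∉ Set.range c})
      (t := {x : t | (x : k) ∈ Set.range c}) (by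
        rw [Set.disjoint_left]
        intro x hx hx'
        exact hx hx')
    have h3 : ((↑) : t → k) '' {x : t | (x : k) ∉ Set.range c} = Y := by
      ext x
      simp [Y, and_comm]
    rw [h3] at h2
    have h4 := h2.comp (fun i : ι => (⟨⟨c i, hct ⟨i, rfl⟩⟩, ⟨i, rfl⟩⟩ :
      {x : t | (x : k) ∈ Set.range c})) (fun i j hij => hc.injective (by
        simpa using hij))
    exact h4
  have : ExpChar k p := ExpChar.prime Fact.out
  have : CharP F₁ p := inferInstance
  have : ExpChar F₁ p := ExpChar.prime Fact.out
  let E : IntermediateField F₁ k := perfectClosure F₁ k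
  have hcE : AlgebraicIndependent E c := h1.extendScalars E
  have : PerfectRing k p := inferInstance
  have hE : ∀ x : E, ∃ y : E, y ^ p = x := by
    have : ExpChar E p := ExpChar.prime Fact.out
    have : PerfectRing E p := perfectClosure.perfectRing F₁ k p
    exact fun x => (frobeniusEquiv E p).surjective x
  have halg := ht.isAlgebraic_field
  have : Algebra.IsAlgebraic (IntermediateField.adjoin E (Set.range c)) k := by
    rw [Subtype.range_coe] at halg
    have hle : ∀ x : k, x ∈ IntermediateField.adjoin F₀ t →
        x ∈ IntermediateField.adjoin E (Set.range c) := by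
      intro x hx
      induction hx using IntermediateField.adjoin_induction with
      | mem x hx =>
        by_cases hxc : x ∈ Set.range c
        · exact IntermediateField.subset_adjoin _ _ hxc
        · have h5 : x ∈ F₁ := IntermediateField.subset_adjoin _ _ ⟨hx, hxc⟩
          have h6 : x ∈ E := E.algebraMap_mem ⟨x, h5⟩
          exact (IntermediateField.adjoin E (Set.range c)).algebraMap_mem ⟨x, h6⟩
      | algebraMap x =>
        have h5 : (x : k) ∈ F₁ := F₁.algebraMap_mem x
        have h6 : (x : k) ∈ E := E.algebraMap_mem ⟨x, h5⟩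
        exact (IntermediateField.adjoin E (Set.range c)).algebraMap_mem ⟨x, h6⟩
      | add x y _ _ hx hy => exact add_mem hx hy
      | inv x _ hx => exact inv_mem hx
      | mul x y _ _ hx hy => exact mul_mem hx hy
    let φ : IntermediateField.adjoin F₀ t →+* IntermediateField.adjoin E (Set.range c) :=
      { toFun := fun x => ⟨x, hle x x.2⟩
        map_one' := rfl
        map_zero' := rfl
        map_add' := fun _ _ => rfl
        map_mul' := fun _ _ => rfl }
    let := φ.toAlgebra
    have : IsScalarTower (IntermediateField.adjoin F₀ t)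
      (IntermediateField.adjoin E (Set.range c)) k := IsScalarTower.of_algebraMap_eq fun x => rfl
    exact Algebra.IsAlgebraic.extendScalars (R := IntermediateField.adjoin F₀ t) φ.injective
  exact exists_subfield_of_perfect p hE c hcE

end Main

end Groth.Agent.Lefpen.H589.SubfieldFrame
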